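import Cfsg.Agent.H916.HT.Six
import Cfsg.Agent.H573.Spor.McLThree
import Cfsg.Agent.H825.HT.Tools
import Cfsg.Agent.S2070
import Cfsg.Agent.S2073

/-!
# S4933: `McL` and `Co2`, `p = 3` (helper916)

The Sylow 3-subgroup of order `3 ^ 6` has a derived subgroup of order at least `3 ^ 3` and contains two commuting
nonabelian subgroups, so its degrees are not of the form `1, 3 ^ a`: the rows are vacuous.
-/

set_option autoImplicit false
set_option maxRecDepth 100000

namespace Cfsg.Agent.H916.HT.McLCo2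

open Subgroup Cfsg Cfsg.Agent.SporadicStructure.PermChain Cfsg.Agent.McLType.Chain Cfsg.Agent.McLType.X275
  Cfsg.Agent.McLType.Gens Cfsg.Agent.McLType.Model Cfsg.Agent.McLType.ThreeElts Cfsg.Agent.CpAut.SporThree.McLBig
open Cfsg.Agent.H316.HT Cfsg.Agent.H681.IP
open scoped commutatorElement

/-- elements of `P` from words -/
def wd (l : List ℕ) (hl : ∀ s ∈ l, s < 6) : P := ⟨(l.map π).prod, word_mem l hl⟩

/-- the generators -/
def g (s : ℕ) (hs : s < 6) : P := ⟨π s, π_mem s hs⟩

/-- the words of the 27 elements -/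
def w27 (n : ℕ) : List ℕ := List.replicate (n / 9) 2 ++ (List.replicate (n / 3 % 3) 3 ++ List.replicate (n % 3) 5)

/-- the images of the base -/
def key (l : List ℕ) : ℕ := 275 * evalWord 9 pt l 1 + evalWord 9 pt l 2

theorem key_all : allBelow (fun i => allBelow (fun j => Nat.beq i j || !(Nat.beq (key (w27 i)) (key (w27 j)))) 27) 27 =
    true := by decide +kernel

theorem w27_lt (n : ℕ) : ∀ s ∈ w27 n, s < 6 := by
  intro s hs
  unfold w27 at hs
  rw [List.mem_append, List.mem_append] at hs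
  rcases hs with hs | hs | hs <;> rw [List.eq_of_mem_replicate hs] <;> norm_num

theorem ev_eq {l m : List ℕ} (hl : ∀ s ∈ l, s < 6) (hm : ∀ s ∈ m, s < 6) (h : (l.map π).prod = (m.map π).prod)
    (x : Fin 275) : evalWord 9 pt l x = evalWord 9 pt m x := by
  rw [← evalπ l hl, ← evalπ m hm, h]

theorem ne_of_ev {l m : List ℕ} (hl : l.all (fun s => Nat.blt s 6) = true) (hm : m.all (fun s => Nat.blt s 6) = true)
    (h : (Nat.beq (evalWord 9 pt l 1) (evalWord 9 pt m 1) && Nat.beq (evalWord 9 pt l 2) (evalWord 9 pt m 2)) = false) :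
    (l.map π).prod ≠ (m.map π).prod := by
  have hl' : ∀ s ∈ l, s < 6 := fun s hs => by
    have := List.all_eq_true.1 hl s hs
    rwa [Nat.blt_eq] at this
  have hm' : ∀ s ∈ m, s < 6 := fun s hs => by
    have := List.all_eq_true.1 hm s hs
    rwa [Nat.blt_eq] at this
  intro h1
  have e1 := ev_eq hl' hm' h1 1
  have e2 := ev_eq hl' hm' h1 2
  have h2 : (Nat.beq (evalWord 9 pt l 1) (evalWord 9 pt m 1) && Nat.beq (evalWord 9 pt l 2) (evalWord 9 pt m 2)) =
      true := by
    rw [Bool.and_eq_true, Nat.beq_eq, Nat.beq_eq]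
    exact ⟨e1, e2⟩
  rw [h] at h2
  exact Bool.noConfusion h2

theorem comm_eq {G : Type*} [Group G] {x y z : G} (h : x * y = z * (y * x)) : ⁅x, y⁆ = z := by
  rw [commutatorElement_def, h]
  group

theorem c01 : ⁅g 0 (by norm_num), g 1 (by norm_num)⁆ = g 3 (by norm_num) := by
  refine comm_eq (Subtype.ext ?_)
  have h := eq_of_eqB (l := [0, 1]) (m := [3, 1, 0]) (by decide +kernel)
  simpa [g, mul_assoc] using h

theorem c04 : ⁅g 0 (by norm_num), g 4 (by norm_num)⁆ = g 2 (by norm_num) * g 3 (by norm_num) := by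
  refine comm_eq (Subtype.ext ?_)
  have h := eq_of_eqB (l := [0, 4]) (m := [2, 3, 4, 0]) (by decide +kernel)
  simpa [g, mul_assoc] using h

theorem c14 : ⁅g 1 (by norm_num), g 4 (by norm_num)⁆ = g 3 (by norm_num) * (g 5 (by norm_num) * g 5 (by norm_num)) := by
  refine comm_eq (Subtype.ext ?_)
  have h := eq_of_eqB (l := [1, 4]) (m := [3, 5, 5, 4, 1]) (by decide +kernel)
  simpa [g, mul_assoc] using h

theorem mem_c {x y : P} : ⁅x, y⁆ ∈ commutator P := commutator_mem_commutator (mem_top x) (mem_top y)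

theorem m3 : g 3 (by norm_num) ∈ commutator P := c01 ▸ mem_c

theorem m2 : g 2 (by norm_num) ∈ commutator P := by
  have h := (commutator P).mul_mem (c04 ▸ mem_c) ((commutator P).inv_mem m3)
  rwa [mul_inv_cancel_right] at h

theorem m5 : g 5 (by norm_num) ∈ commutator P := by
  have h := (commutator P).mul_mem ((commutator P).inv_mem m3) (c14 ▸ mem_c)
  rw [inv_mul_cancel_left] at h
  have h2 := (commutator P).mul_mem h h
  have e : g 5 (by norm_num) * g 5 (by norm_num) * (g 5 (by norm_num) * g 5 (by norm_num)) = g 5 (by norm_num) := by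
    refine Subtype.ext ?_
    have h := eq_of_eqB (l := [5, 5, 5, 5]) (m := [5]) (by decide +kernel)
    simpa [g, mul_assoc] using h
  rwa [e] at h2

/-- the 27 elements of the derived subgroup -/
noncomputable def f27 (n : Fin 27) : commutator P :=
  ⟨g 2 (by norm_num) ^ ((n : ℕ) / 9) * (g 3 (by norm_num) ^ ((n : ℕ) / 3 % 3) * g 5 (by norm_num) ^ ((n : ℕ) % 3)),
    (commutator P).mul_mem ((commutator P).pow_mem m2 _)
      ((commutator P).mul_mem ((commutator P).pow_mem m3 _) ((commutator P).pow_mem m5 _))⟩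

theorem f27_val (n : Fin 27) : (((f27 n : P)) : Equiv.Perm (Fin 275)) = ((w27 n).map π).prod := by
  unfold f27 w27 g
  rw [List.map_append, List.map_append, List.prod_append, List.prod_append, List.map_replicate, List.map_replicate,
    List.map_replicate, List.prod_replicate, List.prod_replicate, List.prod_replicate]
  rfl

theorem f27_inj : Function.Injective f27 := by
  intro i j h
  have h1 : ((w27 i).map π).prod = ((w27 j).map π).prod := by
    rw [← f27_val, ← f27_val, h]
  have e1 := ev_eq (w27_lt i) (w27_lt j) h1 1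
  have e2 := ev_eq (w27_lt i) (w27_lt j) h1 2
  have h2 := allBelow_spec _ _ (allBelow_spec _ _ key_all i i.2) j j.2
  rw [Bool.or_eq_true] at h2
  rcases h2 with h2 | h2
  · exact Fin.ext (Nat.eq_of_beq_eq_true h2)
  · exfalso
    have h3 : key (w27 i) = key (w27 j) := by
      unfold key
      have e1' : evalWord 9 pt (w27 i) 1 = evalWord 9 pt (w27 j) 1 := e1
      have e2' : evalWord 9 pt (w27 i) 2 = evalWord 9 pt (w27 j) 2 := e2
      rw [e1', e2']
    rw [h3, Nat.beq_refl] at h2
    exact absurd h2 (by decide)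

instance : Finite P := Nat.finite_of_card_ne_zero (by rw [card_P]; norm_num)

theorem card_comm : 27 ≤ Nat.card (commutator P) := by
  have h := Nat.card_le_card_of_injective _ f27_inj
  rwa [Nat.card_fin] at h

theorem cm {l m : List ℕ} (hl : ∀ s ∈ l, s < 6) (hm : ∀ s ∈ m, s < 6) (h : eqB (l ++ m) (m ++ l) = true) :
    Commute (wd l hl) (wd m hm) := by
  have h1 := eq_of_eqB h
  rw [List.map_append, List.map_append, List.prod_append, List.prod_append] at h1
  exact Subtype.ext h1

theorem ncm {l m : List ℕ} (hl : ∀ s ∈ l, s < 6) (hm : ∀ s ∈ m, s < 6)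
    (h : (((l ++ m).all (fun s => Nat.blt s 6) && (m ++ l).all (fun s => Nat.blt s 6)) &&
      !(Nat.beq (evalWord 9 pt (l ++ m) 1) (evalWord 9 pt (m ++ l) 1) &&
        Nat.beq (evalWord 9 pt (l ++ m) 2) (evalWord 9 pt (m ++ l) 2))) = true) :
    wd l hl * wd m hm ≠ wd m hm * wd l hl := by
  rw [Bool.and_eq_true, Bool.and_eq_true, Bool.not_eq_true'] at h
  intro h1
  refine ne_of_ev h.1.1 h.1.2 h.2 ?_
  rw [List.map_append, List.map_append, List.prod_append, List.prod_append]
  exact congrArg Subtype.val h1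

/-- **the degrees of the Sylow 3-subgroup** -/
theorem not_td {a : ℕ} (h : TD 3 a P) : False := by
  refine false_of_card (p := 3) Nat.prime_three (by rw [card_P]; norm_num) (by norm_num; exact card_comm) h
    (x₁ := wd [0] (by decide)) (y₁ := wd [2] (by decide)) (x₂ := wd [5] (by decide)) (y₂ := wd [1, 2] (by decide))
    (ncm _ _ (by decide +kernel)) (ncm _ _ (by decide +kernel)) (cm _ _ (by decide +kernel)) (cm _ _ (by decide +kernel))
    (cm _ _ (by decide +kernel)) (cm _ _ (by decide +kernel))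

/-! ### Transport -/

theorem inner_of {S : Type*} [Group S] {m : ℕ} (hm : Nat.card (Cfsg.Out S) = m) (hm0 : Nat.Coprime 3 m) {a : MulAut S}
    {k : ℕ} (ha : a ^ 3 ^ k = 1) : ∃ s : S, MulAut.conj s = a := by
  have h1 : ((a : MulAut S) : Cfsg.Out S) ^ m = 1 := by rw [← hm]; exact pow_card_eq_one'
  have h2 : ((a : MulAut S) : Cfsg.Out S) ^ 3 ^ k = 1 := by
    rw [← QuotientGroup.mk_pow, ha]; rfl
  have h3 : ((a : MulAut S) : Cfsg.Out S) = 1 := by
    rw [← orderOf_eq_one_iff]
    exact Nat.eq_one_of_dvd_coprimes (Nat.Coprime.pow_left k hm0) (orderOf_dvd_of_pow_eq_one h2)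
      (orderOf_dvd_of_pow_eq_one h1)
  exact (QuotientGroup.eq_one_iff a).1 h3

theorem inner_cgr {S T : Type*} [Group S] [Group T] (e : S ≃* T) {m : ℕ} (hm : Nat.card (Cfsg.Out T) = m)
    (hm0 : Nat.Coprime 3 m) {a : MulAut S} {k : ℕ} (ha : a ^ 3 ^ k = 1) : a ∈ (MulAut.conj : S →* MulAut S).range := by
  obtain ⟨t, ht⟩ := inner_of hm hm0 (a := MulAut.congr e a) (k := k) (by rw [← map_pow, ha, map_one])
  refine ⟨e.symm t, ?_⟩
  ext s
  have h1 := DFunLike.congr_fun ht (e s)
  have h2 : (MulAut.congr e a) (e s) = e (a s) := by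
    show e (a (e.symm (e s))) = _
    rw [e.symm_apply_apply]
  rw [h2, MulAut.conj_apply] at h1
  apply e.injective
  rw [← h1, MulAut.conj_apply, map_mul, map_mul, map_inv, e.apply_symm_apply]

theorem row_of {T : Type} [Group T] [Finite T] (f : P →* T) (hf : Function.Injective f) {m : ℕ}
    (hm : Nat.card (Cfsg.Out T) = m) (hm0 : Nat.Coprime 3 m) (h7 : ¬ 3 ^ 7 ∣ Nat.card T) {S : Type*} [Group S]
    (e : S ≃* T) : Row 3 S := by
  intro A _ _ N _ eN hC M _ P' a _ hCD
  exfalso
  have : Fact (Nat.Prime 3) := ⟨Nat.prime_three⟩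
  obtain ⟨eN⟩ := eN
  let e' : N ≃* T := eN.trans e
  have hle : (P' : Subgroup A) ≤ N := Cfsg.Agent.H825.HT.le_of_inner N hC P' P'.isPGroup' fun a k ha =>
    inner_cgr e' hm hm0 ha
  have hX : IsPGroup 3 P := IsPGroup.of_card (n := 6) (by rw [card_P]; norm_num)
  obtain ⟨i, hi⟩ := exists_hom P' (N.subtype.comp (e'.symm.toMonoidHom.comp f))
    (N.subtype_injective.comp (e'.symm.injective.comp hf)) hX
  have h1 : 729 ≤ Nat.card (P' : Subgroup A) := by
    rw [← card_P]
    exact Nat.card_le_card_of_injective i hi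
  obtain ⟨k, hk⟩ := IsPGroup.iff_card.1 P'.isPGroup'
  have h2 : Nat.card (P' : Subgroup A) ∣ Nat.card T := by
    rw [← Nat.card_congr e'.toEquiv]
    exact card_dvd_of_le hle
  have h3 : k ≤ 6 := by
    by_contra hcon
    exact h7 ((pow_dvd_pow 3 (by omega : 7 ≤ k)).trans (hk ▸ h2))
  have h4 : Nat.card (P' : Subgroup A) = 729 := by
    refine le_antisymm ?_ h1
    rw [hk]
    calc 3 ^ k ≤ 3 ^ 6 := Nat.pow_le_pow_right (by norm_num) h3
      _ = 729 := by norm_num
  have hbij : Function.Bijective i := (Nat.bijective_iff_injective_and_card i).2 ⟨hi, by rw [card_P, h4]⟩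
  exact not_td (TD.equiv (P := (P' : Subgroup A)) hCD.1 (MulEquiv.ofBijective i hbij).symm)

theorem emb_mcl : ∃ f : P →* Spor.McL, Function.Injective f := by
  let θ : G1 ≃* ψ.range := MonoidHom.ofInjective ψ_injective
  have hle : P ≤ ψ.range := by
    intro y hy
    obtain ⟨g, hg⟩ := mem_K0_iff.1 (P_le_K0 hy)
    exact ⟨g, hg⟩
  obtain ⟨e⟩ := McLType.X275.isoMcL_G1
  exact ⟨e.toMonoidHom.comp (θ.symm.toMonoidHom.comp (Subgroup.inclusion hle)),
    e.injective.comp (θ.symm.injective.comp (Subgroup.inclusion_injective hle))⟩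

theorem emb_co2 : ∃ f : P →* Spor.Co2, Function.Injective f := by
  obtain ⟨f, hf⟩ := emb_mcl
  have hle : Spor.McL ≤ Spor.Co2 := fun _ h => H573.Spor.McLFive.le_Co2 h
  exact ⟨(Subgroup.inclusion hle).comp f, (Subgroup.inclusion_injective hle).comp hf⟩

/-- **McL, `p = 3`** -/
theorem row_mcl {S : Type*} [Group S] (h : Spor.IsoMcL S) : Row 3 S := by
  obtain ⟨e⟩ := h
  obtain ⟨f, hf⟩ := emb_mcl
  have : Finite Spor.McL := Nat.finite_of_card_ne_zero (by rw [H573.Spor.card_McL]; norm_num)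
  exact row_of f hf S2073.result (by norm_num) (by rw [H573.Spor.card_McL]; norm_num) e

/-- **Co2, `p = 3`** -/
theorem row_co2 {S : Type*} [Group S] (h : Spor.IsoCo2 S) : Row 3 S := by
  obtain ⟨e⟩ := h
  obtain ⟨f, hf⟩ := emb_co2
  have : Finite Spor.Co2 := Nat.finite_of_card_ne_zero (by rw [Co2Type.CardCo2.card_co2]; norm_num)
  exact row_of f hf S2070.result (by norm_num) (by rw [Co2Type.CardCo2.card_co2]; norm_num) e

end Cfsg.Agent.H916.HT.McLCo2
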