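import Cfsg.Agent.H454.Reg.Two.Semi
import Mathlib

/-!
# S4933, `PSL₂(q)` in its own characteristic, outer `p`-automorphisms: field and matrices (helper916)
-/

set_option autoImplicit false
set_option linter.unusedSectionVars false

namespace Cfsg.Agent.H916.HT.Own

open Matrix
open Cfsg.Agent.ClassicalGeometry.AutPSL.Root
open Cfsg.Agent.ClassicalGeometry.AutPSL.Auto
open Cfsg.Agent.ClassicalGeometry.AutPSL.Main
open Cfsg.Agent.H454.Reg.Two

universe u

variable {F : Type u} [Field F] [Fintype F]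

/-! ### the field -/

theorem exists_frob {p n : ℕ} [hp : Fact p.Prime] [CharP F p] (hn : Fintype.card F = p ^ n) (τ : F ≃+* F) :
    ∃ l < n, ∀ x : F, τ x = x ^ p ^ l := by
  let _ : Algebra (ZMod p) F := ZMod.algebra F p
  have hcomm : (τ : F →+* F).comp (algebraMap (ZMod p) F) = algebraMap (ZMod p) F := Subsingleton.elim _ _
  let τ' : F →ₐ[ZMod p] F := { (τ : F →+* F) with commutes' := fun r => RingHom.congr_fun hcomm r }
  obtain ⟨l, hl⟩ := (FiniteField.bijective_frobeniusAlgHom_pow (ZMod p) F).2 τ'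
  have hfin : Module.finrank (ZMod p) F = n := by
    have h1 := Module.card_eq_pow_finrank (K := ZMod p) (V := F)
    rw [ZMod.card, hn] at h1
    exact (Nat.pow_right_injective hp.out.two_le h1).symm
  refine ⟨l, by rw [← hfin]; exact l.2, fun x => ?_⟩
  have h1 : ∀ (n : ℕ) (y : F), ((FiniteField.frobeniusAlgHom (ZMod p) F) ^ n) y = y ^ p ^ n := by
    intro n y
    induction n generalizing y with
    | zero => simp
    | succ n ih =>
      rw [pow_succ, AlgHom.mul_apply, ih]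
      simp [pow_succ, mul_comm, ← pow_mul]
  have h2 : τ' x = τ x := rfl
  rw [← h2, ← hl]
  exact h1 _ x

theorem exists_gen : ∃ s : Fˣ, orderOf s = Fintype.card F - 1 := by
  classical
  obtain ⟨s, hs⟩ := IsCyclic.exists_generator (α := Fˣ)
  refine ⟨s, ?_⟩
  rw [orderOf_eq_card_of_forall_mem_zpowers hs, Nat.card_eq_fintype_card, Fintype.card_units]

/-- the numbers: a generator of the multiplicative group -/
theorem num {p n : ℕ} [hp : Fact p.Prime] [CharP F p] (hn : Fintype.card F = p ^ n) (h3 : 3 ≤ n) {σ : F ≃+* F}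
    (hσ : σ ≠ 1) : ∃ s : Fˣ, (s : F) ^ 4 ≠ 1 ∧ (σ s) ^ 2 ≠ (s : F) ^ 2 ∧ (σ s) ^ 2 * (s : F) ^ 2 ≠ 1 := by
  obtain ⟨l, hl, hl'⟩ := exists_frob hn σ
  obtain ⟨s, hs⟩ := exists_gen (F := F)
  have hl0 : l ≠ 0 := by
    rintro rfl
    apply hσ
    ext x
    rw [hl', pow_zero, pow_one]
    rfl
  have h2 := hp.out.two_le
  have hq : p ^ 3 ≤ p ^ n := Nat.pow_le_pow_right hp.out.pos h3
  have hq8 : 8 ≤ p ^ n := le_trans (by calc 8 = 2 ^ 3 := by norm_num
    _ ≤ p ^ 3 := Nat.pow_le_pow_left h2 3) hq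
  obtain ⟨m, rfl⟩ : ∃ m, n = m + 1 := ⟨n - 1, by omega⟩
  have hlm : p ^ l ≤ p ^ m := Nat.pow_le_pow_right hp.out.pos (by omega)
  have hm : p ^ (m + 1) = p ^ m * p := pow_succ p m
  have hm4 : 4 ≤ p ^ m := by
    calc 4 = 2 ^ 2 := by norm_num
      _ ≤ p ^ 2 := Nat.pow_le_pow_left h2 2
      _ ≤ p ^ m := Nat.pow_le_pow_right hp.out.pos (by omega)
  have hlp : 2 ≤ p ^ l := by
    calc 2 ≤ p := h2
      _ = p ^ 1 := (pow_one p).symm
      _ ≤ p ^ l := Nat.pow_le_pow_right hp.out.pos (by omega)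
  have hone : ∀ k : ℕ, (s : F) ^ k = 1 → Fintype.card F - 1 ∣ k := by
    intro k hk
    rw [← hs]
    apply orderOf_dvd_of_pow_eq_one
    apply Units.ext
    rw [Units.val_pow_eq_pow_val, hk, Units.val_one]
  rw [hn] at hone
  refine ⟨s, ?_, ?_, ?_⟩
  · intro h
    have := Nat.le_of_dvd (by norm_num) (hone 4 h)
    omega
  · intro h
    rw [hl'] at h
    have h1 : (s : F) ^ (2 * (p ^ l - 1)) = 1 := by
      have h5 : (s : F) ^ (2 * (p ^ l - 1)) * (s : F) ^ 2 = (s : F) ^ 2 := by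
        rw [← pow_add, ← h, ← pow_mul]
        congr 1
        omega
      exact mul_right_cancel₀ (pow_ne_zero 2 s.ne_zero) (by rw [h5, one_mul])
    have h6 := Nat.le_of_dvd (by omega) (hone _ h1)
    have h7 : p ^ m * 2 ≤ p ^ m * p := Nat.mul_le_mul_left _ h2
    omega
  · intro h
    rw [hl'] at h
    have h1 : ((s : F) ^ (p ^ l + 1)) ^ 2 = 1 := by
      rw [← h, pow_succ (s : F) (p ^ l), mul_pow]
    rcases hp.out.eq_two_or_odd' with h8 | h8
    · subst h8
      have h9 : (s : F) ^ (2 ^ l + 1) = 1 := by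
        have h10 : ((s : F) ^ (2 ^ l + 1) - 1) ^ 2 = 0 := by
          rw [sub_pow_char, h1]
          simp
        exact sub_eq_zero.1 (pow_eq_zero_iff (two_ne_zero) |>.1 h10)
      have h6 := Nat.le_of_dvd (by omega) (hone _ h9)
      omega
    · have h9 : 3 ≤ p := by
        rcases h8 with ⟨k, hk⟩
        omega
      have h6 := Nat.le_of_dvd (by omega) (hone _ (by rw [pow_mul]; exact h1) : p ^ (m + 1) - 1 ∣ (p ^ l + 1) * 2)
      have h7 : p ^ m * 3 ≤ p ^ m * p := Nat.mul_le_mul_left _ h9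
      omega

/-! ### the Borel subgroup -/

/-- upper triangular matrices -/
def Bs (F : Type u) [Field F] : Subgroup (SpecialLinearGroup (Fin 2) F) where
  carrier := {M | M.1 1 0 = 0}
  one_mem' := by
    show (1 : Matrix (Fin 2) (Fin 2) F) 1 0 = 0
    simp
  mul_mem' {M N} hM hN := by
    have hM' : M.1 1 0 = 0 := hM
    have hN' : N.1 1 0 = 0 := hN
    show (M.1 * N.1) 1 0 = 0
    rw [Matrix.mul_apply, Fin.sum_univ_two, hM', hN', zero_mul, mul_zero, add_zero]
  inv_mem' {M} hM := by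
    have hM' : M.1 1 0 = 0 := hM
    show M.1.adjugate 1 0 = 0
    rw [Matrix.adjugate_fin_two]
    simp [hM']

theorem mem_Bs {M : SpecialLinearGroup (Fin 2) F} : M ∈ Bs F ↔ M.1 1 0 = 0 := Iff.rfl

theorem det2 (M : SpecialLinearGroup (Fin 2) F) : M.1 0 0 * M.1 1 1 - M.1 0 1 * M.1 1 0 = 1 := by
  rw [← Matrix.det_fin_two]
  exact M.2

theorem diag_one {M : SpecialLinearGroup (Fin 2) F} (h : M ∈ Bs F) : M.1 0 0 * M.1 1 1 = 1 := by
  have h1 := det2 M
  rw [mem_Bs] at h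
  rw [show M.1 1 0 = 0 from h, mul_zero, sub_zero] at h1
  exact h1

/-- the upper triangular matrix -/
def ut (s : Fˣ) (k : F) : SpecialLinearGroup (Fin 2) F :=
  ⟨!![(s : F), k; 0, ((s⁻¹ : Fˣ) : F)], by rw [Matrix.det_fin_two_of]; simp⟩

theorem coe_ut (s : Fˣ) (k : F) : (ut s k).1 = !![(s : F), k; 0, ((s⁻¹ : Fˣ) : F)] := rfl

theorem ut_mem (s : Fˣ) (k : F) : ut s k ∈ Bs F := by
  rw [mem_Bs, coe_ut]
  rfl

/-- the diagonal entry -/
def dg : Bs F →* Fˣ where
  toFun M := ⟨M.1.1 0 0, M.1.1 1 1, diag_one M.2, by rw [mul_comm]; exact diag_one M.2⟩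
  map_one' := by
    apply Units.ext
    show (1 : Matrix (Fin 2) (Fin 2) F) 0 0 = 1
    simp
  map_mul' M N := by
    apply Units.ext
    show (M.1.1 * N.1.1) 0 0 = M.1.1 0 0 * N.1.1 0 0
    have h : N.1.1 1 0 = 0 := N.2
    rw [Matrix.mul_apply, Fin.sum_univ_two, h, mul_zero, add_zero]

theorem coe_dg (M : Bs F) : (dg M : F) = M.1.1 0 0 := rfl

theorem dg_ut (s : Fˣ) (k : F) : dg ⟨ut s k, ut_mem s k⟩ = s := by
  apply Units.ext
  rfl

theorem eq_ut {M : SpecialLinearGroup (Fin 2) F} (h : M ∈ Bs F) : M = ut (dg ⟨M, h⟩) (M.1 0 1) := by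
  apply Subtype.ext
  rw [coe_ut]
  ext i j
  fin_cases i <;> fin_cases j
  · rfl
  · rfl
  · exact h
  · rfl

/-- the Borel subgroup of `PSL₂` -/
def BB (F : Type u) [Field F] : Subgroup (ProjectiveSpecialLinearGroup (Fin 2) F) := (Bs F).map pr

theorem pr_mem_BB {M : SpecialLinearGroup (Fin 2) F} : pr M ∈ BB F ↔ M ∈ Bs F := by
  constructor
  · rintro ⟨N, hN, h⟩
    obtain ⟨c, hc⟩ := exists_smul_of_pr_eq h
    rw [mem_Bs, hc]
    have : N.1 1 0 = 0 := hN
    rw [Matrix.smul_apply, this, smul_zero]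
  · intro h
    exact ⟨M, h, rfl⟩

/-- the projection -/
def prB (F : Type u) [Field F] : Bs F →* BB F := (pr (ι := Fin 2) (F := F)).subgroupMap (Bs F)

theorem coe_prB (M : Bs F) : (prB F M : ProjectiveSpecialLinearGroup (Fin 2) F) = pr M.1 := rfl

theorem prB_surj : Function.Surjective (prB F) := MonoidHom.subgroupMap_surjective _ _

theorem ker_prB {M : Bs F} (h : prB F M = 1) : dg M ^ 2 = 1 := by
  have h1 : pr M.1 = 1 := congrArg Subtype.val h
  rw [pr_eq_one_iff, Matrix.SpecialLinearGroup.mem_center_iff] at h1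
  obtain ⟨r, hr, h2⟩ := h1
  apply Units.ext
  rw [Units.val_pow_eq_pow_val, coe_dg, show M.1.1 = Matrix.scalar (Fin 2) r from h2.symm]
  simpa using hr

/-- the square of the diagonal entry -/
noncomputable def dd (F : Type u) [Field F] [Fintype F] : BB F →* Fˣ :=
  ((prB F).liftOfRightInverse (Function.surjInv prB_surj) (Function.rightInverse_surjInv prB_surj))
    ⟨(powMonoidHom 2).comp dg, fun M hM => by
      rw [MonoidHom.mem_ker] at hM ⊢
      exact ker_prB hM⟩

theorem dd_pr (M : Bs F) : dd F (prB F M) = dg M ^ 2 :=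
  MonoidHom.liftOfRightInverse_comp_apply _ _ _ _ _

theorem dd_ut (s : Fˣ) (k : F) (h : pr (ut s k) ∈ BB F) : dd F ⟨pr (ut s k), h⟩ = s ^ 2 := by
  have h1 := dd_pr ⟨ut s k, ut_mem s k⟩
  rw [dg_ut] at h1
  exact h1

theorem exists_ut (x : BB F) : ∃ (s : Fˣ) (k : F), x = ⟨pr (ut s k), pr_mem_BB.2 (ut_mem s k)⟩ := by
  obtain ⟨⟨M, hM⟩, rfl⟩ := prB_surj x
  refine ⟨dg ⟨M, hM⟩, M.1 0 1, ?_⟩
  apply Subtype.ext
  show pr M = _
  exact congrArg pr (eq_ut hM)

theorem ut_mul (s t : Fˣ) (k l : F) : ut s k * ut t l = ut (s * t) (s * l + k * ((t⁻¹ : Fˣ) : F)) := by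
  apply Subtype.ext
  show (ut s k).1 * (ut t l).1 = _
  rw [coe_ut, coe_ut, coe_ut]
  ext i j
  fin_cases i <;> fin_cases j <;> simp [Matrix.mul_apply, Fin.sum_univ_two, mul_comm]

/-! ### Mackey pairs -/

/-- Bruhat: the intersection of two Borel subgroups -/
theorem pairs {g : ProjectiveSpecialLinearGroup (Fin 2) F} (hg : g ∉ BB F) (s : Fˣ) :
    ∃ k k' : F, pr (ut s⁻¹ k') = g⁻¹ * pr (ut s k) * g := by
  obtain ⟨G, rfl⟩ := pr_surjective g
  rw [pr_mem_BB, mem_Bs] at hg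
  set a := G.1 0 0 with ha
  set b := G.1 0 1 with hb
  set c := G.1 1 0 with hc
  set d := G.1 1 1 with hd
  have hc0 : c ≠ 0 := hg
  set δ : F := (s : F)⁻¹ - s with hδ
  have hG : G.1 = !![a, b; c, d] := by
    ext i j
    fin_cases i <;> fin_cases j <;> rfl
  have h1 : d * δ / c * c = d * δ := div_mul_cancel₀ _ hc0
  have h2 : a * δ / c * c = a * δ := div_mul_cancel₀ _ hc0
  have h3 : a * δ / c * d = a * (d * δ / c) := by ring
  generalize d * δ / c = k' at h1 h3
  generalize a * δ / c = k at h2 h3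
  have key : G * ut s⁻¹ k' = ut s k * G := by
    apply Subtype.ext
    show G.1 * (ut s⁻¹ k').1 = (ut s k).1 * G.1
    rw [coe_ut, coe_ut, hG, inv_inv]
    ext i j
    fin_cases i <;> fin_cases j
    · simp [Matrix.mul_apply, Fin.sum_univ_two]
      linear_combination (-1 : F) * h2
    · simp [Matrix.mul_apply, Fin.sum_univ_two]
      linear_combination (-1 : F) * h3
    · simp [Matrix.mul_apply, Fin.sum_univ_two]
      ring
    · simp [Matrix.mul_apply, Fin.sum_univ_two]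
      linear_combination h1
  refine ⟨k, k', ?_⟩
  have h4 := congrArg pr key
  rw [map_mul, map_mul] at h4
  rw [mul_assoc, ← h4, inv_mul_cancel_left]

end Cfsg.Agent.H916.HT.Own
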